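import Groth.Prelude.Def_CE
import Groth.Agent.RDerLib.Horseshoe
import Mathlib

/-!
Cartan–Eilenberg resolutions.
-/

set_option backward.isDefEq.respectTransparency false
set_option backward.isDefEq.respectTransparency.types false
set_option autoImplicit false
set_option linter.style.haveILetI false

universe v u

open CategoryTheory Category Limits HomologicalComplex

namespace Groth.Agent.CELib

variable {A : Type u} [Category.{v} A] [Abelian A]

/-- A complex agreeing in nonnegative degrees with an injective resolution. -/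
theorem isInjResolutionVia {M : A} (R : InjectiveResolution M) (C : CochainComplex A ℤ) (a : M ⟶ C.X 0)
    (hneg : ∀ q : ℤ, q < 0 → IsZero (C.X q)) (c : ∀ n : ℕ, C.X n ≅ R.cocomplex.X n)
    (hc : ∀ n : ℕ, C.d n (n + 1 : ℕ) ≫ (c (n + 1)).hom = (c n).hom ≫ R.cocomplex.d n (n + 1))
    (ha : a ≫ (c 0).hom = RDerLib.ι₀ R) : CE.IsInjResolutionVia C M a := by
  have hc1 : C.d 0 1 ≫ (c 1).hom = (c 0).hom ≫ R.cocomplex.d 0 1 := hc 0
  have h : a ≫ C.d 0 1 = 0 := by
    refine (cancel_mono (c 1).hom).1 ?_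
    change (a ≫ C.d 0 1) ≫ (c 1).hom = 0 ≫ (c 1).hom
    rw [Category.assoc, zero_comp]
    exact (congrArg (a ≫ ·) hc1).trans ((Category.assoc _ _ _).symm.trans
      ((congrArg (· ≫ R.cocomplex.d 0 1) ha).trans (RDerLib.ι₀_d R)))
  haveI hm : Mono (a ≫ (c 0).hom) := by rw [ha]; infer_instance
  refine ⟨h, (CochainComplex.isStrictlyGE_iff C 0).2 fun q hq => hneg q hq, fun q => ?_, fun q hq => ?_,
    mono_of_mono a (c 0).hom, ?_⟩
  · rcases lt_or_ge q 0 with hq | hq
    · exact Injective.of_iso ((hneg q hq).iso (isZero_zero A)).symm inferInstance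
    · obtain ⟨n, rfl⟩ := Int.eq_ofNat_of_zero_le hq
      exact Injective.of_iso (c n).symm (R.injective n)
  · rcases lt_or_ge q 0 with hq' | hq'
    · exact exactAt_iff_isZero_homology _ _ |>.2 (ShortComplex.isZero_homology_of_isZero_X₂ _ (hneg q hq'))
    · obtain ⟨n, rfl⟩ : ∃ n : ℕ, q = ((n + 1 : ℕ) : ℤ) := ⟨(q - 1).toNat, by omega⟩
      rw [exactAt_iff' C (n : ℤ) ((n + 1 : ℕ) : ℤ) ((n + 2 : ℕ) : ℤ) (by simp) (by simp [add_assoc])]
      refine (ShortComplex.exact_iff_of_iso ?_).2 ((exactAt_iff' R.cocomplex n (n + 1) (n + 2) (by simp) (by simp)).1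
        (R.cocomplex_exactAt_succ n))
      exact ShortComplex.isoMk (c n) (c (n + 1)) (c (n + 2)) (hc n).symm (hc (n + 1)).symm
  · refine (ShortComplex.exact_iff_of_iso ?_).2 (RDerLib.exact_ι₀ R)
    exact ShortComplex.isoMk (Iso.refl M) (c 0) (c 1) (by simpa using ha.symm) hc1.symm

/-! ### Resolutions vanishing on zero objects -/

/-- the zero resolution -/
noncomputable def zeroRes (X : A) (h : IsZero X) : InjectiveResolution X where
  cocomplex := (CochainComplex.single₀ A).obj X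
  injective n := by
    have : IsZero (((CochainComplex.single₀ A).obj X).X n) := by
      rcases n with _ | n
      · exact h
      · exact HomologicalComplex.isZero_single_obj_X _ _ _ _ (Nat.succ_ne_zero n)
    exact Injective.of_iso (this.iso (isZero_zero A)).symm inferInstance
  ι := 𝟙 _
  quasiIso := inferInstance

theorem isZero_zeroRes (X : A) (h : IsZero X) (n : ℕ) : IsZero ((zeroRes X h).cocomplex.X n) := by
  rcases n with _ | n
  · exact h
  · exact HomologicalComplex.isZero_single_obj_X _ _ _ _ (Nat.succ_ne_zero n)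

variable [EnoughInjectives A]

open Classical in
/-- a resolution, zero for zero objects -/
noncomputable def res0 (X : A) : InjectiveResolution X :=
  if h : IsZero X then zeroRes X h else injectiveResolution X

theorem isZero_res0 {X : A} (h : IsZero X) (n : ℕ) : IsZero ((res0 X).cocomplex.X n) := by
  rw [res0, dif_pos h]
  exact isZero_zeroRes X h n

/-! ### The construction -/

variable (K : CochainComplex A ℤ)

/-- boundaries -/
noncomputable abbrev Bd (p : ℤ) : A := kernel (K.homologyπ p)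

/-- boundaries in cycles -/
noncomputable abbrev seqZ (p : ℤ) : ShortComplex A :=
  ShortComplex.mk (kernel.ι (K.homologyπ p)) (K.homologyπ p) (kernel.condition _)

theorem seqZ_shortExact (p : ℤ) : (seqZ K p).ShortExact :=
  ShortComplex.ShortExact.mk' (ShortComplex.exact_of_f_is_kernel _ (kernelIsKernel _)) inferInstance inferInstance

/-- to the boundaries -/
noncomputable def toBd (p : ℤ) : K.X p ⟶ Bd K (p + 1) :=
  kernel.lift _ (K.toCycles p (p + 1)) (K.toCycles_comp_homologyπ p (p + 1))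

@[reassoc (attr := simp)]
theorem toBd_ι (p : ℤ) : toBd K p ≫ kernel.ι (K.homologyπ (p + 1)) = K.toCycles p (p + 1) := kernel.lift_ι _ _ _

@[reassoc (attr := simp)]
theorem iCycles_toBd (p : ℤ) : K.iCycles p ≫ toBd K p = 0 := by
  rw [← cancel_mono (kernel.ι (K.homologyπ (p + 1))), assoc, toBd_ι, zero_comp,
    ← cancel_mono (K.iCycles (p + 1)), assoc, toCycles_i, iCycles_d, zero_comp]

/-- cycles in terms -/
noncomputable abbrev seqK (p : ℤ) : ShortComplex A := ShortComplex.mk (K.iCycles p) (toBd K p) (iCycles_toBd K p)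

theorem seqK_shortExact (p : ℤ) : (seqK K p).ShortExact := by
  refine ShortComplex.ShortExact.mk' (ShortComplex.exact_of_f_is_kernel _ ?_) inferInstance ?_
  · refine KernelFork.IsLimit.ofι' _ _ fun {W} k hk => ?_
    change W ⟶ K.X p at k
    change k ≫ toBd K p = 0 at hk
    refine ⟨K.liftCycles k (p + 1) (by simp) ?_, K.liftCycles_i _ _ _ _⟩
    rw [← toCycles_i, ← toBd_ι, ← assoc, ← assoc, hk, zero_comp, zero_comp]
  · exact (ShortComplex.exact_iff_epi_kernel_lift
      (ShortComplex.mk (K.toCycles p (p + 1)) (K.homologyπ (p + 1)) (K.toCycles_comp_homologyπ p (p + 1)))).1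
      (ShortComplex.exact_of_g_is_cokernel _ (K.homologyIsCokernel p (p + 1) (by simp)))

/-- twisting for cycles -/
noncomputable def tZ (p : ℤ) : RDerLib.Twist (S := seqZ K p) (res0 (Bd K p)) (res0 (K.homology p)) :=
  (RDerLib.exists_twist (S := seqZ K p) _ _ (seqZ_shortExact K p)).some

/-- resolution of cycles -/
noncomputable def RZ (p : ℤ) : InjectiveResolution (K.cycles p) := RDerLib.midRes (tZ K p) (seqZ_shortExact K p)

/-- twisting for terms -/
noncomputable def tK (p : ℤ) : RDerLib.Twist (S := seqK K p) (RZ K p) (res0 (Bd K (p + 1))) :=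
  (RDerLib.exists_twist (S := seqK K p) _ _ (seqK_shortExact K p)).some

/-- resolution of terms -/
noncomputable def RK (p : ℤ) : InjectiveResolution (K.X p) := RDerLib.midRes (tK K p) (seqK_shortExact K p)

theorem isZero_RK {p : ℤ} (h : IsZero (K.X p)) (h' : IsZero (K.X (p + 1))) (n : ℕ) :
    IsZero ((RK K p).cocomplex.X n) := by
  have hZ : IsZero (K.cycles p) := IsZero.of_mono (K.iCycles p) h
  have hB : IsZero (Bd K (p + 1)) :=
    IsZero.of_mono (kernel.ι (K.homologyπ (p + 1))) (IsZero.of_mono (K.iCycles (p + 1)) h')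
  exact (biprod_isZero_iff _ _).2 ⟨(biprod_isZero_iff _ _).2 ⟨isZero_res0 (IsZero.of_mono (kernel.ι (K.homologyπ p)) hZ) n,
    isZero_res0 (IsZero.of_epi (K.homologyπ p) hZ) n⟩, isZero_res0 hB n⟩

/-- cycles into terms -/
noncomputable def jZ (p : ℤ) : (RZ K p).cocomplex ⟶ (RK K p).cocomplex := RDerLib.midInl (tK K p)

/-- terms onto boundaries -/
noncomputable def πB (p : ℤ) : (RK K p).cocomplex ⟶ (res0 (Bd K (p + 1))).cocomplex := RDerLib.midSnd (tK K p)

/-- boundaries into cycles -/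
noncomputable def iB (p : ℤ) : (res0 (Bd K p)).cocomplex ⟶ (RZ K p).cocomplex := RDerLib.midInl (tZ K p)

/-- cycles onto cohomology -/
noncomputable def πH (p : ℤ) : (RZ K p).cocomplex ⟶ (res0 (K.homology p)).cocomplex := RDerLib.midSnd (tZ K p)

@[reassoc]
theorem jZ_πB (p : ℤ) : jZ K p ≫ πB K p = 0 := RDerLib.mid_zero (tK K p)

@[reassoc]
theorem iB_πH (p : ℤ) : iB K p ≫ πH K p = 0 := RDerLib.mid_zero (tZ K p)

theorem ι₀_RK (p : ℤ) : RDerLib.ι₀ (RK K p) = RDerLib.midAug (tK K p) := RDerLib.midι_f (tK K p)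

theorem ι₀_RZ (p : ℤ) : RDerLib.ι₀ (RZ K p) = RDerLib.midAug (tZ K p) := RDerLib.midι_f (tZ K p)

theorem aug_jZ (p : ℤ) : RDerLib.ι₀ (RZ K p) ≫ (jZ K p).f 0 = K.iCycles p ≫ RDerLib.ι₀ (RK K p) := by
  rw [ι₀_RK]
  exact (RDerLib.f_midAug (tK K p)).symm

theorem aug_πB (p : ℤ) : RDerLib.ι₀ (RK K p) ≫ (πB K p).f 0 = toBd K p ≫ RDerLib.ι₀ (res0 (Bd K (p + 1))) := by
  rw [ι₀_RK]
  exact RDerLib.midAug_snd (tK K p)

theorem aug_iB (p : ℤ) :
    RDerLib.ι₀ (res0 (Bd K p)) ≫ (iB K p).f 0 = kernel.ι (K.homologyπ p) ≫ RDerLib.ι₀ (RZ K p) := by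
  rw [ι₀_RZ]
  exact (RDerLib.f_midAug (tZ K p)).symm

theorem aug_πH (p : ℤ) :
    RDerLib.ι₀ (RZ K p) ≫ (πH K p).f 0 = K.homologyπ p ≫ RDerLib.ι₀ (res0 (K.homology p)) := by
  rw [ι₀_RZ]
  exact RDerLib.midAug_snd (tZ K p)

/-- the columns -/
noncomputable def cols : CochainComplex (CochainComplex A ℕ) ℤ :=
  CochainComplex.of (fun p => (RK K p).cocomplex) (fun p => πB K p ≫ iB K (p + 1) ≫ jZ K (p + 1)) fun p => by
    simp only [assoc, jZ_πB_assoc, zero_comp, comp_zero]

theorem cols_d (p : ℤ) : (cols K).d p (p + 1) = πB K p ≫ iB K (p + 1) ≫ jZ K (p + 1) := by simp [cols]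

/-- the rows -/
noncomputable def rows : CochainComplex (CochainComplex A ℤ) ℕ := HomologicalComplex₂.flip (cols K)

theorem rows_d (p : ℤ) (n : ℕ) :
    ((rows K).X n).d p (p + 1) = (πB K p).f n ≫ (iB K (p + 1)).f n ≫ (jZ K (p + 1)).f n := by
  change ((cols K).d p (p + 1)).f n = _
  rw [cols_d]
  rfl

/-- splitting of terms -/
theorem jZ_isKernel (p : ℤ) (n : ℕ) {W : A} (k : W ⟶ (RK K p).cocomplex.X n) (hk : k ≫ (πB K p).f n = 0) :
    ∃ l : W ⟶ (RZ K p).cocomplex.X n, l ≫ (jZ K p).f n = k := by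
  change W ⟶ (RZ K p).cocomplex.X n ⊞ (res0 (Bd K (p + 1))).cocomplex.X n at k
  change k ≫ biprod.snd = 0 at hk
  refine ⟨k ≫ biprod.fst, ?_⟩
  change (k ≫ biprod.fst) ≫ biprod.inl = k
  conv_rhs => rw [← Category.comp_id k, ← biprod.total]
  rw [Preadditive.comp_add, reassoc_of% hk, zero_comp, add_zero, assoc]

instance mono_jZ (p : ℤ) (n : ℕ) : Mono ((jZ K p).f n) := by
  change Mono (biprod.inl : (RZ K p).cocomplex.X n ⟶ _ ⊞ (res0 (Bd K (p + 1))).cocomplex.X n)
  infer_instance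

instance mono_iB (p : ℤ) (n : ℕ) : Mono ((iB K p).f n) := by
  change Mono (biprod.inl : (res0 (Bd K p)).cocomplex.X n ⟶ _ ⊞ (res0 (K.homology p)).cocomplex.X n)
  infer_instance

instance epi_πB (p : ℤ) (n : ℕ) : Epi ((πB K p).f n) := by
  change Epi (biprod.snd : (RZ K p).cocomplex.X n ⊞ _ ⟶ (res0 (Bd K (p + 1))).cocomplex.X n)
  infer_instance

theorem jZ_d (p : ℤ) (n : ℕ) : (jZ K p).f n ≫ ((rows K).X n).d p (p + 1) = 0 := by
  rw [rows_d, ← assoc, ← HomologicalComplex.comp_f, jZ_πB, HomologicalComplex.zero_f, zero_comp]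

theorem cycles_zero (p : ℤ) (n : ℕ) : ((rows K).X n).iCycles p ≫ (πB K p).f n = 0 := by
  rw [← cancel_mono ((iB K (p + 1)).f n ≫ (jZ K (p + 1)).f n), assoc, zero_comp, ← rows_d]
  exact iCycles_d _ _ _

/-- cycles of the rows -/
noncomputable def cZ (p : ℤ) (n : ℕ) : ((rows K).X n).cycles p ≅ (RZ K p).cocomplex.X n where
  hom := (jZ_isKernel K p n _ (cycles_zero K p n)).choose
  inv := ((rows K).X n).liftCycles ((jZ K p).f n) (p + 1) (by simp) (jZ_d K p n)
  hom_inv_id := by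
    rw [← cancel_mono (((rows K).X n).iCycles p), assoc, liftCycles_i, id_comp]
    exact (jZ_isKernel K p n _ (cycles_zero K p n)).choose_spec
  inv_hom_id := by
    rw [← cancel_mono ((jZ K p).f n), assoc, id_comp]
    refine (congrArg (_ ≫ ·) (jZ_isKernel K p n _ (cycles_zero K p n)).choose_spec).trans ?_
    exact liftCycles_i _ _ _ _ _

@[reassoc]
theorem cZ_hom_j (p : ℤ) (n : ℕ) : (cZ K p n).hom ≫ (jZ K p).f n = ((rows K).X n).iCycles p :=
  (jZ_isKernel K p n _ (cycles_zero K p n)).choose_spec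

theorem cZ_d (p : ℤ) (n : ℕ) : cyclesMap ((rows K).d n (n + 1)) p ≫ (cZ K p (n + 1)).hom =
    (cZ K p n).hom ≫ (RZ K p).cocomplex.d n (n + 1) := by
  rw [← cancel_mono ((jZ K p).f (n + 1)), assoc, assoc, cZ_hom_j, cyclesMap_i]
  refine Eq.trans ?_ (congrArg ((cZ K p n).hom ≫ ·) ((jZ K p).comm n (n + 1)))
  rw [← assoc, cZ_hom_j]
  rfl

theorem toCycles_cZ (p : ℤ) (n : ℕ) :
    ((rows K).X n).toCycles p (p + 1) ≫ (cZ K (p + 1) n).hom = (πB K p).f n ≫ (iB K (p + 1)).f n := by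
  rw [← cancel_mono ((jZ K (p + 1)).f n), assoc, assoc, cZ_hom_j, toCycles_i, rows_d]

theorem toCycles_πH (p : ℤ) (n : ℕ) :
    ((rows K).X n).toCycles p (p + 1) ≫ (cZ K (p + 1) n).hom ≫ (πH K (p + 1)).f n = 0 := by
  rw [← assoc, toCycles_cZ, assoc, ← HomologicalComplex.comp_f, iB_πH, HomologicalComplex.zero_f, comp_zero]

theorem exists_cH (p : ℤ) (n : ℕ) : ∃ c : ((rows K).X n).homology p ≅ (res0 (K.homology p)).cocomplex.X n,
    ((rows K).X n).homologyπ p ≫ c.hom = (cZ K p n).hom ≫ (πH K p).f n := by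
  obtain ⟨q, rfl⟩ : ∃ q, p = q + 1 := ⟨p - 1, by omega⟩
  have h : IsColimit (CokernelCofork.ofπ (f := ((rows K).X n).toCycles q (q + 1))
      ((cZ K (q + 1) n).hom ≫ (πH K (q + 1)).f n) (toCycles_πH K q n)) := by
    haveI : Epi ((πH K (q + 1)).f n) := by
      change Epi (biprod.snd : (res0 (Bd K (q + 1))).cocomplex.X n ⊞ _ ⟶ (res0 (K.homology (q + 1))).cocomplex.X n)
      infer_instance
    haveI : Epi ((cZ K (q + 1) n).hom ≫ (πH K (q + 1)).f n) := epi_comp _ _
    refine CokernelCofork.IsColimit.ofπ' _ _ fun {W} k hk => ?_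
    have h1 : (iB K (q + 1)).f n ≫ (cZ K (q + 1) n).inv ≫ k = 0 := by
      rw [← cancel_epi ((πB K q).f n), ← assoc, ← toCycles_cZ, assoc, Iso.hom_inv_id_assoc, comp_zero]
      exact hk
    refine ⟨(biprod.inr : _ ⟶ (res0 (Bd K (q + 1))).cocomplex.X n ⊞ (res0 (K.homology (q + 1))).cocomplex.X n) ≫
      (cZ K (q + 1) n).inv ≫ k, ?_⟩
    rw [assoc]
    refine Eq.trans (congrArg ((cZ K (q + 1) n).hom ≫ ·) ?_) (Iso.hom_inv_id_assoc _ k)
    have hy : ∀ y : (res0 (Bd K (q + 1))).cocomplex.X n ⊞ (res0 (K.homology (q + 1))).cocomplex.X n ⟶ W,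
        biprod.inl ≫ y = 0 → biprod.snd ≫ biprod.inr ≫ y = y := fun y hy => by
      conv_rhs => rw [← Category.id_comp y, ← biprod.total]
      rw [Preadditive.add_comp, assoc, assoc, hy, comp_zero, zero_add]
    exact hy _ h1
  refine ⟨IsColimit.coconePointUniqueUpToIso (((rows K).X n).homologyIsCokernel q (q + 1) (by simp)) h, ?_⟩
  exact IsColimit.comp_coconePointUniqueUpToIso_hom (((rows K).X n).homologyIsCokernel q (q + 1) (by simp)) h
    WalkingParallelPair.one

/-- cohomology of the rows -/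
noncomputable def cH (p : ℤ) (n : ℕ) : ((rows K).X n).homology p ≅ (res0 (K.homology p)).cocomplex.X n :=
  (exists_cH K p n).choose

@[reassoc]
theorem π_cH (p : ℤ) (n : ℕ) : ((rows K).X n).homologyπ p ≫ (cH K p n).hom = (cZ K p n).hom ≫ (πH K p).f n :=
  (exists_cH K p n).choose_spec

theorem cH_d (p : ℤ) (n : ℕ) : homologyMap ((rows K).d n (n + 1)) p ≫ (cH K p (n + 1)).hom =
    (cH K p n).hom ≫ (res0 (K.homology p)).cocomplex.d n (n + 1) := by
  rw [← cancel_epi (((rows K).X n).homologyπ p), homologyπ_naturality_assoc, π_cH, π_cH_assoc, ← assoc, cZ_d,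
    assoc]
  exact congrArg ((cZ K p n).hom ≫ ·) ((πH K p).comm n (n + 1)).symm

/-- the augmentation -/
noncomputable def aug : K ⟶ (rows K).X 0 where
  f p := RDerLib.ι₀ (RK K p)
  comm' := by
    rintro p _ rfl
    refine (congrArg (RDerLib.ι₀ (RK K p) ≫ ·) (rows_d K p 0)).trans ?_
    rw [← assoc, aug_πB, assoc, ← assoc (RDerLib.ι₀ _), aug_iB, assoc, aug_jZ, toBd_ι_assoc, toCycles_i_assoc]

theorem aug_cZ (p : ℤ) : cyclesMap (aug K) p ≫ (cZ K p 0).hom = RDerLib.ι₀ (RZ K p) := by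
  rw [← cancel_mono ((jZ K p).f 0), assoc, cZ_hom_j, cyclesMap_i, aug_jZ]
  rfl

theorem aug_cH (p : ℤ) : homologyMap (aug K) p ≫ (cH K p 0).hom = RDerLib.ι₀ (res0 (K.homology p)) := by
  rw [← cancel_epi (K.homologyπ p), homologyπ_naturality_assoc, π_cH, ← assoc, aug_cZ, aug_πH]

/-- the double complex -/
noncomputable def dbl : CochainComplex (CochainComplex A ℤ) ℤ := (rows K).extend ComplexShape.embeddingUpNat

/-- rows of the double complex -/
noncomputable def dblIso (n : ℕ) : (dbl K).X n ≅ (rows K).X n :=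
  (rows K).extendXIso ComplexShape.embeddingUpNat rfl

theorem dblIso_d (n : ℕ) : (dbl K).d n (n + 1 : ℕ) ≫ (dblIso K (n + 1)).hom =
    (dblIso K n).hom ≫ (rows K).d n (n + 1) := by
  refine Eq.trans (congrArg (· ≫ (dblIso K (n + 1)).hom)
    (extend_d_eq (rows K) ComplexShape.embeddingUpNat (i := n) (j := n + 1) rfl rfl)) ?_
  simp [dblIso, dbl]

theorem isZero_dbl (q : ℤ) (hq : q < 0) : IsZero ((dbl K).X q) :=
  isZero_extend_X _ _ _ fun i hi => by simp at hi; omega

/-- **Cartan–Eilenberg resolutions** -/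
theorem exists_ce (n₀ : ℤ) [K.IsStrictlyGE n₀] :
    ∃ (I : CochainComplex (CochainComplex A ℤ) ℤ) (ε : K ⟶ I.X 0) (_ : ε ≫ I.d 0 1 = 0),
      (∃ i : ℤ, ∀ p q : ℤ, p < i → IsZero ((I.X q).X p)) ∧
      (∀ p : ℤ, CE.IsInjResolutionVia (((HomologicalComplex.eval A (ComplexShape.up ℤ) p).mapHomologicalComplex
        (ComplexShape.up ℤ)).obj I) (K.X p) (ε.f p)) ∧
      (∀ p : ℤ, CE.IsInjResolutionVia (((HomologicalComplex.cyclesFunctor A (ComplexShape.up ℤ) p).mapHomologicalComplex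
        (ComplexShape.up ℤ)).obj I) (K.cycles p) (HomologicalComplex.cyclesMap ε p)) ∧
      (∀ p : ℤ, CE.IsInjResolutionVia (((HomologicalComplex.homologyFunctor A (ComplexShape.up ℤ) p).mapHomologicalComplex
        (ComplexShape.up ℤ)).obj I) (K.homology p) (HomologicalComplex.homologyMap ε p)) := by
  let ε : K ⟶ (dbl K).X 0 := aug K ≫ (dblIso K 0).inv
  have hε0 : ε ≫ (dblIso K 0).hom = aug K := by simp [ε]
  have key : ∀ (G : CochainComplex A ℤ ⥤ A) [G.PreservesZeroMorphisms] (M : A) (R : InjectiveResolution M)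
      (c : ∀ n, G.obj ((rows K).X n) ≅ R.cocomplex.X n)
      (_ : ∀ n, G.map ((rows K).d n (n + 1)) ≫ (c (n + 1)).hom = (c n).hom ≫ R.cocomplex.d n (n + 1))
      (a : M ⟶ G.obj K) (_ : a ≫ G.map (aug K) ≫ (c 0).hom = RDerLib.ι₀ R),
      CE.IsInjResolutionVia ((G.mapHomologicalComplex (ComplexShape.up ℤ)).obj (dbl K)) M (a ≫ G.map ε) := by
    intro G _ M R c hc a ha
    refine isInjResolutionVia R _ _ (fun q hq => G.map_isZero (isZero_dbl K q hq))
      (fun n => G.mapIso (dblIso K n) ≪≫ c n) (fun n => ?_) ?_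
    · change G.map ((dbl K).d n (n + 1 : ℕ)) ≫ G.map (dblIso K (n + 1)).hom ≫ (c (n + 1)).hom = _
      rw [← G.map_comp_assoc, dblIso_d, G.map_comp_assoc, hc, Iso.trans_hom, Functor.mapIso_hom, assoc]
    · change (a ≫ G.map ε) ≫ G.map (dblIso K 0).hom ≫ (c 0).hom = _
      rw [assoc, ← G.map_comp_assoc, hε0]
      exact ha
  refine ⟨dbl K, ε, ?_, ⟨n₀ - 1, fun p q hp => ?_⟩, fun p => ?_, fun p => ?_, fun p => ?_⟩
  · ext p
    have h := key (HomologicalComplex.eval A (ComplexShape.up ℤ) p) (K.X p) (RK K p) (fun n => Iso.refl _)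
      (fun n => by simp; rfl) (𝟙 _) (by simp; rfl)
    obtain ⟨h', -⟩ := h
    rw [id_comp] at h'
    exact h'
  · rcases lt_or_ge q 0 with hq | hq
    · exact (HomologicalComplex.eval A (ComplexShape.up ℤ) p).map_isZero (isZero_dbl K q hq)
    · obtain ⟨n, rfl⟩ := Int.eq_ofNat_of_zero_le hq
      refine IsZero.of_iso ?_ ((HomologicalComplex.eval A (ComplexShape.up ℤ) p).mapIso (dblIso K n))
      exact isZero_RK K (K.isZero_of_isStrictlyGE n₀ p (by omega)) (K.isZero_of_isStrictlyGE n₀ (p + 1) (by omega)) n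
  · have h := key (HomologicalComplex.eval A (ComplexShape.up ℤ) p) (K.X p) (RK K p) (fun n => Iso.refl _)
      (fun n => by simp; rfl) (𝟙 _) (by simp; rfl)
    rwa [id_comp] at h
  · have h := key (HomologicalComplex.cyclesFunctor A (ComplexShape.up ℤ) p) _ (RZ K p) (cZ K p) (cZ_d K p) (𝟙 _)
      (by rw [id_comp]; exact aug_cZ K p)
    rwa [id_comp] at h
  · have h := key (HomologicalComplex.homologyFunctor A (ComplexShape.up ℤ) p) _ (res0 (K.homology p)) (cH K p)
      (cH_d K p) (𝟙 _) (by rw [id_comp]; exact aug_cH K p)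
    rwa [id_comp] at h

end Groth.Agent.CELib
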